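import Cfsg.Agent.H952.S7.Defs
import Cfsg.Agent.H882.E6Thirty

/-!
# S5927, S5928: the threefold cover of `A₇` on the pairs of points (helper16)

Pieces A0, A1 of `tools/plans/S5927_sevenc_two.md` (helper952):
* `exists_lifts` : the lifts `S`, `T`, `a`;
* `exists_fam` : the cocycle on the 21 pairs.
-/

set_option autoImplicit false
set_option linter.unusedSectionVars false

namespace Cfsg.Agent.H16.S7

open Cfsg Cfsg.Lie Module Equiv
open Cfsg.Agent.H952.S7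

/-! ### words -/

/-- the value of a word: `0 = S`, `1 = T`, `2 = a` -/
def wv {G : Type*} [Group G] (S T a : G) (l : List (Fin 3)) : G :=
  l.foldr (fun i x => (![S, T, a] : Fin 3 → G) i * x) 1

section wv
variable {G : Type*} [Group G] (S T a : G)

theorem wv_nil : wv S T a [] = 1 := rfl

theorem wv_cons (i : Fin 3) (l : List (Fin 3)) : wv S T a (i :: l) = (![S, T, a] : Fin 3 → G) i * wv S T a l := rfl

theorem wv_append (l m : List (Fin 3)) : wv S T a (l ++ m) = wv S T a l * wv S T a m := by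
  induction l with
  | nil => rw [List.nil_append, wv_nil, one_mul]
  | cons i l ih => rw [List.cons_append, wv_cons, wv_cons, ih, mul_assoc]

theorem map_wv {K : Type*} [Group K] (f : G →* K) (l : List (Fin 3)) : f (wv S T a l) = wv (f S) (f T) (f a) l := by
  induction l with
  | nil => rw [wv_nil, wv_nil, map_one]
  | cons i l ih =>
    rw [wv_cons, wv_cons, map_mul, ih]
    congr 1
    fin_cases i <;> rfl

end wv

/-- coset representatives for the pairs -/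
def bw : Fin 21 → List (Fin 3) :=
  ![[], [1, 1], [0, 1, 1], [0, 0, 1, 1], [0, 0, 0, 1, 1], [0, 0, 0, 0, 1, 1], [1], [0, 1], [0, 0, 1], [0, 0, 0, 1], [0, 0, 0, 0, 1], [1, 0, 1], [0, 1, 0, 1], [0, 0, 1, 0, 1], [0, 0, 0, 1, 0, 1], [0, 0, 0, 0, 1, 0, 1], [1, 0, 0, 1], [0, 1, 0, 0, 1], [0, 0, 1, 0, 0, 1], [0, 0, 0, 1, 0, 0, 1], [0, 0, 0, 0, 1, 0, 0, 1]]

/-- the words in `S`, `a` -/
def ww : Fin 21 → List (Fin 3) :=
  ![[], [], [0, 0, 0, 0, 2, 0], [2, 0, 2, 0, 0, 2, 0], [2, 0, 0, 2, 0, 2, 0], [2], [], [], [], [0, 0, 0, 2, 0, 0, 2, 0, 2, 0], [0, 0, 0, 0, 2], [0, 0, 0, 0, 2, 0], [0, 0, 0, 2, 0, 2, 0], [0, 0, 0, 2, 0, 0, 0, 2], [0, 0, 0, 0, 2, 0, 2], [0], [2, 0, 2, 0, 0, 2, 0], [0, 0, 0, 0, 2, 0, 0, 2], [0, 0, 2, 0, 0, 2, 0, 0], [0, 0], [2, 0, 2, 0, 0, 0]]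

/-- the relation `(T S⁻¹ T S)²` -/
def r1 : List (Fin 3) := [1, 0, 0, 0, 0, 1, 0, 1, 0, 0, 0, 0, 1, 0]

/-- the relation `(T S⁻² T S²)²` -/
def r2 : List (Fin 3) := [1, 0, 0, 0, 1, 0, 0, 1, 0, 0, 0, 1, 0, 0]

/-- a word for `(3 4 5)` -/
def y345 : List (Fin 3) := [1, 1, 0, 1, 0, 0, 0, 1, 1, 0, 1, 0]

/-- the points where `T` is applied, and the end point -/
def exl : List (Fin 3) → Fin 21 → List (Fin 21) × Fin 21
  | [], p => ([], p)
  | i :: l, p => if i = 0 then ((exl l p).1, sp (exl l p).2) else ((exl l p).2 :: (exl l p).1, tp (exl l p).2)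

/-! ### the permutations -/

/-- `(2 3 4 5 6)` -/
def ps : Perm (Fin 7) := swap 2 3 * swap 3 4 * swap 4 5 * swap 5 6

/-- `(0 1 2)` -/
def pt : Perm (Fin 7) := swap 0 1 * swap 1 2

/-- `(0 1)(2 3)` -/
def pa : Perm (Fin 7) := swap 0 1 * swap 2 3

theorem perm_key : ∀ p, wv ps pt pa (1 :: bw p) = wv ps pt pa (bw (tp p) ++ ww p) := by decide +kernel

theorem perm_r1 : wv ps pt pa r1 = wv ps pt pa [] := by decide +kernel

theorem perm_r2 : wv ps pt pa r2 = wv ps pt pa [] := by decide +kernel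

theorem perm_y : wv ps pt pa y345 = swap 3 4 * swap 4 5 := by decide +kernel

/-- `s`, `t`, `a` in the alternating group -/
def s7 : ↥(alternatingGroup (Fin 7)) := ⟨ps, Perm.mem_alternatingGroup.2 (by decide)⟩
def t7 : ↥(alternatingGroup (Fin 7)) := ⟨pt, Perm.mem_alternatingGroup.2 (by decide)⟩
def a7 : ↥(alternatingGroup (Fin 7)) := ⟨pa, Perm.mem_alternatingGroup.2 (by decide)⟩

theorem alt_eq {l m : List (Fin 3)} (h : wv ps pt pa l = wv ps pt pa m) : wv s7 t7 a7 l = wv s7 t7 a7 m := by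
  apply Subtype.ext
  have h1 := map_wv s7 t7 a7 (alternatingGroup (Fin 7)).subtype
  exact (h1 l).trans (h.trans (h1 m).symm)

/-! ### the linear equations -/

section core

variable {G : Type*} [Group G] {F : Type*} [Field F] {M : Type*} [AddCommGroup M] [Module F M]
  (σ : Representation F G M) {S T a z : G} {ζ : F}

theorem fix_word {v : M} (hS : σ S v = v) (ha : σ a v = v) : ∀ l : List (Fin 3), (∀ x ∈ l, x ≠ 1) →
    σ (wv S T a l) v = v := by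
  intro l
  induction l with
  | nil => intro _; rw [wv_nil, map_one]; rfl
  | cons i l ih =>
    intro h
    rw [wv_cons, map_mul, Module.End.mul_apply, ih fun x hx => h x (List.mem_cons_of_mem _ hx)]
    have h1 := h i (List.mem_cons_self ..)
    match i, h1 with
    | 0, _ => exact hS
    | 1, h => exact absurd rfl h
    | 2, _ => exact ha

theorem ww_ne : ∀ p, ∀ x ∈ ww p, x ≠ 1 := by decide +kernel

theorem z_pow (hz : ∀ v, σ z v = ζ • v) (n : ℕ) (v : M) : σ (z ^ n) v = ζ ^ n • v := by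
  induction n with
  | zero => rw [pow_zero, pow_zero, map_one, one_smul]; rfl
  | succ n ih => rw [pow_succ, map_mul, Module.End.mul_apply, hz, map_smul, ih, smul_smul, pow_succ, mul_comm]

theorem s_word (h5 : S ^ 5 = 1) (p : Fin 21) :
    wv S T a (0 :: bw p) = wv S T a (bw (sp p)) * (if p = 0 then S else 1) := by
  have h : ∀ x, S * (S * (S * (S * (S * x)))) = x := by
    intro x
    calc S * (S * (S * (S * (S * x)))) = S ^ 5 * x := by simp only [pow_succ, pow_zero, one_mul, mul_assoc]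
      _ = x := by rw [h5, one_mul]
  fin_cases p
  all_goals first
    | exact (mul_one _).symm
    | exact (h _).trans (mul_one _).symm
    | (change S * 1 = 1 * S; rw [mul_one, one_mul])

variable (hz : ∀ v, σ z v = ζ • v) (h5 : S ^ 5 = 1) (n : Fin 21 → ℕ)
  (hn : ∀ p, wv S T a (1 :: bw p) = wv S T a (bw (tp p) ++ ww p) * z ^ n p) {v : M}
  (hvS : σ S v = v) (hva : σ a v = v)

include h5 hvS in
theorem fam_s (p : Fin 21) : σ S (σ (wv S T a (bw p)) v) = σ (wv S T a (bw (sp p))) v := by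
  have h1 := s_word (T := T) (a := a) h5 p
  rw [← Module.End.mul_apply, ← map_mul]
  change σ (wv S T a (0 :: bw p)) v = _
  rw [h1, map_mul, Module.End.mul_apply]
  congr 1
  split_ifs
  · exact hvS
  · rw [map_one]; rfl

include hz hn hvS hva in
theorem fam_t (p : Fin 21) : σ T (σ (wv S T a (bw p)) v) = ζ ^ n p • σ (wv S T a (bw (tp p))) v := by
  rw [← Module.End.mul_apply, ← map_mul]
  change σ (wv S T a (1 :: bw p)) v = _
  rw [hn p, map_mul, Module.End.mul_apply, z_pow σ hz, map_smul, wv_append, map_mul, Module.End.mul_apply,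
    fix_word σ hvS hva _ (ww_ne p)]

include hz h5 hn hvS hva in
theorem word_act (l : List (Fin 3)) (hl : ∀ x ∈ l, x ≠ 2) (p : Fin 21) :
    σ (wv S T a l) (σ (wv S T a (bw p)) v) = ζ ^ ((exl l p).1.map n).sum • σ (wv S T a (bw (exl l p).2)) v := by
  induction l with
  | nil => rw [wv_nil, map_one, exl, List.map_nil, List.sum_nil, pow_zero, one_smul]; rfl
  | cons i l ih =>
    rw [wv_cons, map_mul, Module.End.mul_apply, ih fun x hx => hl x (List.mem_cons_of_mem _ hx), map_smul]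
    have h1 := hl i (List.mem_cons_self ..)
    match i, h1 with
    | 0, _ =>
      rw [exl, if_pos rfl]
      change _ • σ S _ = _
      rw [fam_s σ h5 hvS]
    | 1, _ =>
      rw [exl, if_neg (by decide)]
      change _ • σ T _ = _
      rw [fam_t σ hz n hn hvS hva, smul_smul, List.map_cons, List.sum_cons, pow_add, mul_comm]
    | 2, h => exact absurd rfl h

theorem smul_cancel {x : M} (hx : x ≠ 0) {i j : ℕ} (h1 : ζ ≠ 1) (h3 : ζ ^ 3 = 1) (h : ζ ^ i • x = ζ ^ j • x) :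
    (i : ZMod 3) = j := by
  have h4 : ζ ^ i = ζ ^ j := by
    have h5 : (ζ ^ i - ζ ^ j) • x = 0 := by rw [sub_smul, h, sub_self]
    rcases smul_eq_zero.1 h5 with h6 | h6
    · exact sub_eq_zero.1 h6
    · exact absurd h6 hx
  have ho : orderOf ζ = 3 := orderOf_eq_prime h3 h1
  have hz0 : ζ ≠ 0 := by
    rintro rfl
    norm_num at h3
  have h5 : Units.mk0 ζ hz0 ^ i = Units.mk0 ζ hz0 ^ j := by
    apply Units.ext
    push_cast
    exact h4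
  have ho' : orderOf (Units.mk0 ζ hz0) = 3 := by
    rw [← orderOf_units, Units.val_mk0, ho]
  rw [pow_eq_pow_iff_modEq, ho'] at h5
  exact (ZMod.natCast_eq_natCast_iff _ _ _).2 h5

theorem apply_ne {v : M} (hv : v ≠ 0) (g : G) : σ g v ≠ 0 := by
  intro h
  apply hv
  have h1 : σ (g⁻¹ * g) v = 0 := by rw [map_mul, Module.End.mul_apply, h, map_zero]
  rw [inv_mul_cancel, map_one] at h1
  exact h1

include hz h5 hn hvS hva in
/-- a relation gives a linear equation -/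
theorem req (h1 : ζ ≠ 1) (h3 : ζ ^ 3 = 1) (hv : v ≠ 0) {l : List (Fin 3)} {c : ℕ} (hl : ∀ x ∈ l, x ≠ 2)
    (hlc : wv S T a l = z ^ c) (p : Fin 21) (L : List (Fin 21)) (he : exl l p = (L, p)) :
    (((L.map n).sum : ℕ) : ZMod 3) = c := by
  have h := word_act σ hz h5 n hn hvS hva l hl p
  rw [hlc, he, z_pow σ hz] at h
  exact (smul_cancel (apply_ne σ hv _) h1 h3 h).symm

include hz hn hvS hva in
/-- the gauge -/
theorem geq (h1 : ζ ≠ 1) (h3 : ζ ^ 3 = 1) (hv : v ≠ 0) (p : Fin 21) (he : 1 :: bw p = bw (tp p)) :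
    ((n p : ℕ) : ZMod 3) = 0 := by
  have h := fam_t σ hz n hn hvS hva p
  rw [← Module.End.mul_apply, ← map_mul] at h
  change σ (wv S T a (1 :: bw p)) v = _ at h
  rw [he] at h
  have h2 := smul_cancel (i := 0) (j := n p) (apply_ne σ hv (wv S T a (bw (tp p)))) h1 h3 (by rw [pow_zero, one_smul]; exact h)
  rw [← h2, Nat.cast_zero]

include hz h5 hn hvS hva in
/-- **the cocycle** -/
theorem core (h1 : ζ ≠ 1) (h3 : ζ ^ 3 = 1) (hv : v ≠ 0) (hT3 : T ^ 3 = 1) (hST : (S * T) ^ 7 = 1) {c1 c2 : ℕ}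
    (hc1 : wv S T a r1 = z ^ c1) (hc2 : wv S T a r2 = z ^ c2) :
    ∀ p, ((n p : ℕ) : ZMod 3) = (nt p : ZMod 3) * (c1 : ZMod 3) := by
  have h33 : (3 : ZMod 3) = 0 := by decide
  have hw3 : wv S T a [1, 1, 1] = z ^ 0 := by
    change T * (T * (T * 1)) = z ^ 0
    rw [mul_one, pow_zero, ← hT3]
    simp only [pow_succ, pow_zero, one_mul, mul_assoc]
  have hw7 : wv S T a [0, 1, 0, 1, 0, 1, 0, 1, 0, 1, 0, 1, 0, 1] = z ^ 0 := by
    rw [pow_zero, ← hST]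
    change S * (T * (S * (T * (S * (T * (S * (T * (S * (T * (S * (T * (S * (T * 1))))))))))))) = _
    simp only [pow_succ, pow_zero, one_mul, mul_assoc, mul_one]
  have eT3_0 := req σ hz h5 n hn hvS hva h1 h3 hv (by decide) hw3 0 [1, 6, 0] (by decide +kernel)
  have eT3_2 := req σ hz h5 n hn hvS hva h1 h3 hv (by decide) hw3 2 [11, 7, 2] (by decide +kernel)
  have eT3_3 := req σ hz h5 n hn hvS hva h1 h3 hv (by decide) hw3 3 [16, 8, 3] (by decide +kernel)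
  have eT3_4 := req σ hz h5 n hn hvS hva h1 h3 hv (by decide) hw3 4 [19, 9, 4] (by decide +kernel)
  have eT3_5 := req σ hz h5 n hn hvS hva h1 h3 hv (by decide) hw3 5 [15, 10, 5] (by decide +kernel)
  have eST7_0 := req σ hz h5 n hn hvS hva h1 h3 hv (by decide) hw7 0 [1, 15, 14, 13, 12, 7, 0] (by decide +kernel)
  have eST7_2 := req σ hz h5 n hn hvS hva h1 h3 hv (by decide) hw7 2 [6, 5, 19, 18, 17, 8, 2] (by decide +kernel)
  have eST7_3 := req σ hz h5 n hn hvS hva h1 h3 hv (by decide) hw7 3 [11, 10, 4, 16, 20, 9, 3] (by decide +kernel)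
  have g0 := geq σ hz n hn hvS hva h1 h3 hv 0 rfl
  have g6 := geq σ hz n hn hvS hva h1 h3 hv 6 rfl
  have g7 := geq σ hz n hn hvS hva h1 h3 hv 7 rfl
  have g8 := geq σ hz n hn hvS hva h1 h3 hv 8 rfl
  have eR1_17 := req σ hz h5 n hn hvS hva h1 h3 hv (by decide) hc1 17 [17, 18, 17, 18] (by decide +kernel)
  have eR2_1 := req σ hz h5 n hn hvS hva h1 h3 hv (by decide) hc2 1 [6, 3, 6, 3] (by decide +kernel)
  have eR2_4 := req σ hz h5 n hn hvS hva h1 h3 hv (by decide) hc2 4 [19, 8, 0, 1] (by decide +kernel)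
  have eR2_7 := req σ hz h5 n hn hvS hva h1 h3 hv (by decide) hc2 7 [2, 19, 17, 9] (by decide +kernel)
  have eR2_8 := req σ hz h5 n hn hvS hva h1 h3 hv (by decide) hc2 8 [3, 15, 13, 10] (by decide +kernel)
  have eR2_9 := req σ hz h5 n hn hvS hva h1 h3 hv (by decide) hc2 9 [4, 6, 4, 6] (by decide +kernel)
  have eR2_10 := req σ hz h5 n hn hvS hva h1 h3 hv (by decide) hc2 10 [5, 11, 14, 7] (by decide +kernel)
  have eR2_12 := req σ hz h5 n hn hvS hva h1 h3 hv (by decide) hc2 12 [12, 14, 12, 14] (by decide +kernel)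
  have eR2_18 := req σ hz h5 n hn hvS hva h1 h3 hv (by decide) hc2 18 [18, 20, 18, 20] (by decide +kernel)
  have eR2_20 := req σ hz h5 n hn hvS hva h1 h3 hv (by decide) hc2 20 [20, 17, 20, 17] (by decide +kernel)
  simp only [List.map_cons, List.map_nil, List.sum_cons, List.sum_nil, Nat.cast_add, Nat.cast_zero, add_zero] at eT3_0 eT3_2 eT3_3 eT3_4 eT3_5 eST7_0 eST7_2 eST7_3 eR1_17 eR2_1 eR2_4 eR2_7 eR2_8 eR2_9 eR2_10 eR2_12 eR2_18 eR2_20
  intro p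
  fin_cases p
  · change ((n 0 : ℕ) : ZMod 3) = ((0 : ℕ) : ZMod 3) * (c1 : ZMod 3)
    push_cast
    linear_combination g0
  · change ((n 1 : ℕ) : ZMod 3) = ((0 : ℕ) : ZMod 3) * (c1 : ZMod 3)
    push_cast
    linear_combination eT3_0 - g0 - g6
  · change ((n 2 : ℕ) : ZMod 3) = ((2 : ℕ) : ZMod 3) * (c1 : ZMod 3)
    push_cast
    linear_combination - eT3_4 - g6 - eR1_17 + eR2_7 - eR2_9 + eR2_18 - eR2_20 + (1 * ((n 4 : ℕ) : ZMod 3) + 1 * ((n 6 : ℕ) : ZMod 3) + 1 * ((n 17 : ℕ) : ZMod 3) - 1 * (c1 : ZMod 3)) * h33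
  · change ((n 3 : ℕ) : ZMod 3) = ((0 : ℕ) : ZMod 3) * (c1 : ZMod 3)
    push_cast
    linear_combination eT3_0 - eT3_2 - eT3_3 + eT3_4 + eST7_0 + eST7_3 - g6 + eR2_1 + eR2_4 + eR2_7 - eR2_8 - eR2_9 + eR2_12 + eR2_20 + (- 1 * ((n 0 : ℕ) : ZMod 3) - 1 * ((n 1 : ℕ) : ZMod 3) - 1 * ((n 9 : ℕ) : ZMod 3) - 1 * ((n 12 : ℕ) : ZMod 3) - 1 * ((n 14 : ℕ) : ZMod 3) - 1 * ((n 17 : ℕ) : ZMod 3) - 1 * ((n 19 : ℕ) : ZMod 3) - 1 * ((n 20 : ℕ) : ZMod 3) + 1 * (c2 : ZMod 3)) * h33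
  · change ((n 4 : ℕ) : ZMod 3) = ((0 : ℕ) : ZMod 3) * (c1 : ZMod 3)
    push_cast
    linear_combination eT3_0 - eT3_2 - eT3_3 + eT3_4 + eST7_0 + eST7_3 - g6 - eR2_1 + eR2_4 + eR2_7 - eR2_8 + eR2_9 + eR2_12 + eR2_20 + (- 1 * ((n 0 : ℕ) : ZMod 3) - 1 * ((n 1 : ℕ) : ZMod 3) + 1 * ((n 3 : ℕ) : ZMod 3) - 1 * ((n 4 : ℕ) : ZMod 3) - 1 * ((n 9 : ℕ) : ZMod 3) - 1 * ((n 12 : ℕ) : ZMod 3) - 1 * ((n 14 : ℕ) : ZMod 3) - 1 * ((n 17 : ℕ) : ZMod 3) - 1 * ((n 19 : ℕ) : ZMod 3) - 1 * ((n 20 : ℕ) : ZMod 3) + 1 * (c2 : ZMod 3)) * h33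
  · change ((n 5 : ℕ) : ZMod 3) = ((2 : ℕ) : ZMod 3) * (c1 : ZMod 3)
    push_cast
    linear_combination - eT3_0 - eT3_2 - eT3_3 - eT3_4 + eST7_0 + eST7_2 + eST7_3 - g6 - eR1_17 - eR2_1 - eR2_8 + eR2_12 - eR2_18 - eR2_20 + (1 * ((n 3 : ℕ) : ZMod 3) + 1 * ((n 6 : ℕ) : ZMod 3) - 1 * ((n 12 : ℕ) : ZMod 3) - 1 * ((n 14 : ℕ) : ZMod 3) + 1 * ((n 17 : ℕ) : ZMod 3) + 1 * ((n 18 : ℕ) : ZMod 3) + 1 * ((n 20 : ℕ) : ZMod 3) - 1 * (c1 : ZMod 3) - 1 * (c2 : ZMod 3)) * h33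
  · change ((n 6 : ℕ) : ZMod 3) = ((0 : ℕ) : ZMod 3) * (c1 : ZMod 3)
    push_cast
    linear_combination g6
  · change ((n 7 : ℕ) : ZMod 3) = ((0 : ℕ) : ZMod 3) * (c1 : ZMod 3)
    push_cast
    linear_combination g7
  · change ((n 8 : ℕ) : ZMod 3) = ((0 : ℕ) : ZMod 3) * (c1 : ZMod 3)
    push_cast
    linear_combination g8
  · change ((n 9 : ℕ) : ZMod 3) = ((0 : ℕ) : ZMod 3) * (c1 : ZMod 3)
    push_cast
    linear_combination eT3_0 + eT3_4 + g8 - eR2_4 + eR2_9 + (- 1 * ((n 4 : ℕ) : ZMod 3) - 1 * ((n 6 : ℕ) : ZMod 3)) * h33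
  · change ((n 10 : ℕ) : ZMod 3) = ((0 : ℕ) : ZMod 3) * (c1 : ZMod 3)
    push_cast
    linear_combination eT3_2 + eT3_3 - eT3_4 + eST7_0 - eST7_3 + g7 - eR2_1 - eR2_4 - eR2_7 - eR2_8 + eR2_9 + eR2_12 - eR2_20 + (1 * ((n 3 : ℕ) : ZMod 3) - 1 * ((n 7 : ℕ) : ZMod 3) + 1 * ((n 9 : ℕ) : ZMod 3) + 1 * ((n 10 : ℕ) : ZMod 3) - 1 * ((n 12 : ℕ) : ZMod 3) - 1 * ((n 14 : ℕ) : ZMod 3) + 1 * ((n 17 : ℕ) : ZMod 3) + 1 * ((n 19 : ℕ) : ZMod 3) + 1 * ((n 20 : ℕ) : ZMod 3) - 1 * (c2 : ZMod 3)) * h33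
  · change ((n 11 : ℕ) : ZMod 3) = ((1 : ℕ) : ZMod 3) * (c1 : ZMod 3)
    push_cast
    linear_combination eT3_2 + eT3_4 + g6 - g7 + eR1_17 - eR2_7 + eR2_9 - eR2_18 + eR2_20 + (- 1 * ((n 4 : ℕ) : ZMod 3) - 1 * ((n 6 : ℕ) : ZMod 3) - 1 * ((n 17 : ℕ) : ZMod 3)) * h33
  · change ((n 12 : ℕ) : ZMod 3) = ((0 : ℕ) : ZMod 3) * (c1 : ZMod 3)
    push_cast
    linear_combination eT3_0 + eT3_2 - eT3_4 + eST7_2 - eR2_4 + eR2_7 - eR2_9 - eR2_10 - eR2_12 + eR2_18 - eR2_20 + (- 1 * ((n 2 : ℕ) : ZMod 3) + 1 * ((n 4 : ℕ) : ZMod 3) + 1 * ((n 12 : ℕ) : ZMod 3) + 1 * ((n 14 : ℕ) : ZMod 3) - 1 * ((n 18 : ℕ) : ZMod 3) - 1 * (c2 : ZMod 3)) * h33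
  · change ((n 13 : ℕ) : ZMod 3) = ((2 : ℕ) : ZMod 3) * (c1 : ZMod 3)
    push_cast
    linear_combination eT3_2 + eT3_3 - eT3_5 - eST7_0 + eST7_2 - eST7_3 - eR1_17 - eR2_1 + eR2_4 + eR2_7 - eR2_8 - eR2_9 - eR2_12 - eR2_18 + (- 1 * ((n 2 : ℕ) : ZMod 3) + 1 * ((n 3 : ℕ) : ZMod 3) + 1 * ((n 4 : ℕ) : ZMod 3) + 1 * ((n 6 : ℕ) : ZMod 3) - 1 * ((n 8 : ℕ) : ZMod 3) + 1 * ((n 10 : ℕ) : ZMod 3) + 1 * ((n 12 : ℕ) : ZMod 3) + 1 * ((n 13 : ℕ) : ZMod 3) + 1 * ((n 14 : ℕ) : ZMod 3) + 1 * ((n 15 : ℕ) : ZMod 3) + 1 * ((n 18 : ℕ) : ZMod 3) - 1 * ((n 19 : ℕ) : ZMod 3) + 1 * ((n 20 : ℕ) : ZMod 3) - 1 * (c1 : ZMod 3) - 1 * (c2 : ZMod 3)) * h33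
  · change ((n 14 : ℕ) : ZMod 3) = ((0 : ℕ) : ZMod 3) * (c1 : ZMod 3)
    push_cast
    linear_combination eT3_2 - eT3_3 - eT3_4 + eST7_0 - eST7_2 + eST7_3 - eR2_1 - eR2_4 - eR2_8 + eR2_10 + eR2_12 - eR2_18 - eR2_20 + (1 * ((n 3 : ℕ) : ZMod 3) + 1 * ((n 6 : ℕ) : ZMod 3) - 1 * ((n 7 : ℕ) : ZMod 3) + 1 * ((n 8 : ℕ) : ZMod 3) - 1 * ((n 11 : ℕ) : ZMod 3) - 1 * ((n 12 : ℕ) : ZMod 3) - 1 * ((n 14 : ℕ) : ZMod 3) + 1 * ((n 17 : ℕ) : ZMod 3) + 1 * ((n 18 : ℕ) : ZMod 3) + 1 * ((n 19 : ℕ) : ZMod 3) + 1 * ((n 20 : ℕ) : ZMod 3) - 1 * (c2 : ZMod 3)) * h33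
  · change ((n 15 : ℕ) : ZMod 3) = ((1 : ℕ) : ZMod 3) * (c1 : ZMod 3)
    push_cast
    linear_combination eT3_0 - eT3_4 + eT3_5 + eST7_0 - eST7_2 + g6 - g7 + eR1_17 - eR2_1 + eR2_4 + eR2_7 - eR2_8 - eR2_9 + eR2_12 + eR2_18 - eR2_20 + (- 1 * ((n 0 : ℕ) : ZMod 3) - 1 * ((n 1 : ℕ) : ZMod 3) + 1 * ((n 3 : ℕ) : ZMod 3) + 1 * ((n 4 : ℕ) : ZMod 3) + 1 * ((n 6 : ℕ) : ZMod 3) - 1 * ((n 12 : ℕ) : ZMod 3) - 1 * ((n 14 : ℕ) : ZMod 3) - 1 * ((n 18 : ℕ) : ZMod 3)) * h33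
  · change ((n 16 : ℕ) : ZMod 3) = ((0 : ℕ) : ZMod 3) * (c1 : ZMod 3)
    push_cast
    linear_combination - eT3_0 + eT3_2 - eT3_3 - eT3_4 - eST7_0 - eST7_3 + g6 - g8 - eR2_1 - eR2_4 - eR2_7 + eR2_8 + eR2_9 - eR2_12 - eR2_20 + (1 * ((n 0 : ℕ) : ZMod 3) + 1 * ((n 1 : ℕ) : ZMod 3) + 1 * ((n 3 : ℕ) : ZMod 3) + 1 * ((n 8 : ℕ) : ZMod 3) + 1 * ((n 9 : ℕ) : ZMod 3) + 1 * ((n 12 : ℕ) : ZMod 3) + 1 * ((n 14 : ℕ) : ZMod 3) + 1 * ((n 16 : ℕ) : ZMod 3) + 1 * ((n 17 : ℕ) : ZMod 3) + 1 * ((n 19 : ℕ) : ZMod 3) + 1 * ((n 20 : ℕ) : ZMod 3) - 1 * (c2 : ZMod 3)) * h33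
  · change ((n 17 : ℕ) : ZMod 3) = ((1 : ℕ) : ZMod 3) * (c1 : ZMod 3)
    push_cast
    linear_combination eR1_17 - eR2_18 + eR2_20 + (- 1 * ((n 17 : ℕ) : ZMod 3)) * h33
  · change ((n 18 : ℕ) : ZMod 3) = ((1 : ℕ) : ZMod 3) * (c1 : ZMod 3)
    push_cast
    linear_combination eR1_17 + eR2_18 - eR2_20 + (- 1 * ((n 18 : ℕ) : ZMod 3)) * h33
  · change ((n 19 : ℕ) : ZMod 3) = ((0 : ℕ) : ZMod 3) * (c1 : ZMod 3)
    push_cast
    linear_combination eT3_0 + eT3_2 + eT3_3 - eT3_4 - eST7_0 - eST7_3 + g6 - g8 + eR2_1 - eR2_7 + eR2_8 + eR2_9 - eR2_12 - eR2_20 + (- 1 * ((n 3 : ℕ) : ZMod 3) - 2 * ((n 6 : ℕ) : ZMod 3) + 1 * ((n 9 : ℕ) : ZMod 3) + 1 * ((n 12 : ℕ) : ZMod 3) + 1 * ((n 14 : ℕ) : ZMod 3) + 1 * ((n 17 : ℕ) : ZMod 3) + 1 * ((n 19 : ℕ) : ZMod 3) + 1 * ((n 20 : ℕ) : ZMod 3)) * h33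
  · change ((n 20 : ℕ) : ZMod 3) = ((2 : ℕ) : ZMod 3) * (c1 : ZMod 3)
    push_cast
    linear_combination eT3_0 - eT3_2 - eT3_3 + eT3_4 + eST7_0 + eST7_3 - eR1_17 - eR2_1 + eR2_4 + eR2_7 - eR2_8 - eR2_9 + eR2_12 + eR2_18 - eR2_20 + (- 1 * ((n 0 : ℕ) : ZMod 3) - 1 * ((n 1 : ℕ) : ZMod 3) + 1 * ((n 3 : ℕ) : ZMod 3) + 1 * ((n 6 : ℕ) : ZMod 3) - 1 * ((n 9 : ℕ) : ZMod 3) - 1 * ((n 12 : ℕ) : ZMod 3) - 1 * ((n 14 : ℕ) : ZMod 3) + 1 * ((n 17 : ℕ) : ZMod 3) - 1 * ((n 19 : ℕ) : ZMod 3) - 1 * (c1 : ZMod 3)) * h33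

end core

open Cfsg.Agent.ChevalleyStructure.E6Min.Tables Cfsg.Agent.ChevalleyStructure.E6Min.Basic
  Cfsg.Agent.ChevalleyStructure.E6Min.Adjoint
open Cfsg.Agent.H163.E6

universe u

/-! ### the lifts -/

theorem s7_pow : s7 ^ 5 = 1 := Subtype.ext (by decide +kernel)
theorem t7_pow : t7 ^ 3 = 1 := Subtype.ext (by decide +kernel)
theorem a7_sq : a7 * a7 = 1 := Subtype.ext (by decide +kernel)
theorem st7_pow : (s7 * t7) ^ 7 = 1 := Subtype.ext (by decide +kernel)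
theorem as7_pow : (a7 * s7) ^ 4 = 1 := Subtype.ext (by decide +kernel)
theorem y7_pow : yw s7 t7 ^ 3 = 1 := Subtype.ext (by decide +kernel)
theorem y7_ne : yw s7 t7 ≠ 1 := fun h => absurd (congrArg Subtype.val h) (by decide +kernel)
theorem t7_ne : t7 ≠ 1 := fun h => absurd (congrArg Subtype.val h) (by decide +kernel)
theorem yz7 : yw s7 t7 * (s7 * t7) = (s7 * t7) ^ 2 * yw s7 t7 := Subtype.ext (by decide +kernel)

/-- `(2 3)(4 6)` -/
def r7 : ↥(alternatingGroup (Fin 7)) := ⟨swap 2 3 * swap 4 6, Perm.mem_alternatingGroup.2 (by decide)⟩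

theorem r7_a : r7 * a7 * r7⁻¹ = a7 := Subtype.ext (by decide +kernel)
theorem r7_s : r7 * s7 * r7⁻¹ = s7⁻¹ := Subtype.ext (by decide +kernel)

theorem map_yw {G K : Type*} [Group G] [Group K] (f : G →* K) (S T : G) : f (yw S T) = yw (f S) (f T) := by
  simp only [yw, map_mul, map_inv]

section lifts

variable {F : Type u} [Field F]

/-- an element of the kernel of order prime to 3 is trivial -/
theorem one_of_pow {w : ↥(Zgrp F)} (h : ad F w = 1) {m : ℕ} (hm : Nat.Coprime m 3) (hw : w ^ m = 1) : w = 1 := by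
  have h4 : w ^ Nat.gcd m 3 = 1 := by
    rw [pow_gcd_eq_one]
    exact ⟨hw, Cov.ker_pow h⟩
  rwa [hm, pow_one] at h4

/-- equality up to the kernel -/
theorem eq_mul_of_ad {x y : ↥(Zgrp F)} (h : ad F x = ad F y) : ∃ w : ↥(Zgrp F), ad F w = 1 ∧ x = y * w ∧ Commute y w :=
  ⟨y⁻¹ * x, by rw [map_mul, map_inv, h, inv_mul_cancel], by rw [mul_inv_cancel_left],
    Cov.ker_comm (by rw [map_mul, map_inv, h, inv_mul_cancel]) y⟩

/-- elements of the same order prime to 3 with the same image are equal -/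
theorem eq_of_ad {x y : ↥(Zgrp F)} (h : ad F x = ad F y) {m : ℕ} (hm : Nat.Coprime m 3) (hx : x ^ m = 1) (hy : y ^ m = 1) :
    x = y := by
  obtain ⟨w, hw, hxw, hc⟩ := eq_mul_of_ad h
  have h1 : w ^ m = 1 := by
    rw [hxw, hc.mul_pow, hy, one_mul] at hx
    exact hx
  rw [hxw, one_of_pow hw hm h1, mul_one]

variable [Finite F] {H : Subgroup ↥(chevE6.group F)} {φ : ↥(alternatingGroup (Fin 7)) →* ↥(chevE6.group F)}

/-- the lifts -/
structure Lifts (φ : ↥(alternatingGroup (Fin 7)) →* ↥(chevE6.group F)) (S T a : ↥(Zgrp F)) : Prop where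
  adS : ad F S = φ s7
  adT : ad F T = φ t7
  ada : ad F a = φ a7
  S5 : S ^ 5 = 1
  T3 : T ^ 3 = 1
  ST7 : (S * T) ^ 7 = 1
  a2 : a * a = 1
  b4 : (a * S) ^ 4 = 1
  y3 : yw S T ^ 3 = 1
  yz : yw S T * (S * T) = (S * T) ^ 2 * yw S T

theorem exists_lifts (hi : Function.Injective φ) {ω : Fˣ} (hc : Cover φ ω) : ∃ S T a : ↥(Zgrp F), Lifts φ S T a := by
  obtain ⟨x0, hx0⟩ := ad_surjective (φ s7)
  obtain ⟨x1, hx1⟩ := ad_surjective (φ a7)
  obtain ⟨T0, hT0⟩ := ad_surjective (φ t7)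
  have adS : ad F (x0 ^ 6) = φ s7 := by
    rw [map_pow, hx0, pow_succ, ← map_pow, s7_pow, map_one, one_mul]
  have S5 : (x0 ^ 6) ^ 5 = 1 := by
    have h1 := Cov.ker_pow (z := x0 ^ 5) (by rw [map_pow, hx0, ← map_pow, s7_pow, map_one])
    rw [← pow_mul, show 6 * 5 = 5 * 3 * 2 by norm_num, pow_mul, pow_mul, h1, one_pow]
  have ada : ad F (x1 ^ 3) = φ a7 := by
    rw [map_pow, hx1, pow_succ, pow_two, ← map_mul, a7_sq, map_one, one_mul]
  have a2 : x1 ^ 3 * x1 ^ 3 = 1 := by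
    have h1 := Cov.ker_pow (z := x1 ^ 2) (by rw [map_pow, hx1, pow_two, ← map_mul, a7_sq, map_one])
    rw [← pow_add, show 3 + 3 = 2 * 3 by norm_num, pow_mul, h1]
  set S := x0 ^ 6
  set a := x1 ^ 3
  set k := (S * T0) ^ 7 with hk
  have hk1 : ad F k = 1 := by rw [hk, map_pow, map_mul, adS, hT0, ← map_mul, ← map_pow, st7_pow, map_one]
  have hk3 := Cov.ker_pow hk1
  set T := T0 * k⁻¹ with hT
  have adT : ad F T = φ t7 := by rw [hT, map_mul, map_inv, hk1, inv_one, mul_one, hT0]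
  have ST7 : (S * T) ^ 7 = 1 := by
    have hcm : Commute (S * T0) k⁻¹ := Commute.inv_right (Cov.ker_comm hk1 (S * T0))
    rw [hT, ← mul_assoc, hcm.mul_pow, ← hk, inv_pow, show 7 = 1 + 3 * 2 by norm_num, pow_add, pow_mul, hk3, one_pow,
      mul_one, pow_one, mul_inv_cancel]
  have T3 : T ^ 3 = 1 := (Cov.type_thirty (Or.inr rfl) hi hc (orderOf_eq_prime t7_pow t7_ne) adT).1
  have ady : ad F (yw S T) = φ (yw s7 t7) := by rw [map_yw, adS, adT, map_yw]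
  have y3 : yw S T ^ 3 = 1 := (Cov.type_thirty (Or.inr rfl) hi hc (orderOf_eq_prime y7_pow y7_ne) ady).1
  refine ⟨S, T, a, adS, adT, ada, S5, T3, ST7, a2, ?_, y3, ?_⟩
  · obtain ⟨g, hg⟩ := ad_surjective (φ r7)
    have ga : g * a * g⁻¹ = a := by
      refine eq_of_ad (m := 2) ?_ (by norm_num) ?_ ?_
      · rw [map_mul, map_mul, map_inv, hg, ada, ← map_inv, ← map_mul, ← map_mul, r7_a]
      · rw [conj_pow, pow_two, a2, mul_one, mul_inv_cancel]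
      · rw [pow_two, a2]
    have gS : g * S * g⁻¹ = S⁻¹ := by
      refine eq_of_ad (m := 5) ?_ (by norm_num) ?_ ?_
      · rw [map_mul, map_mul, map_inv, map_inv, hg, adS, ← map_inv, ← map_mul, ← map_mul, r7_s, map_inv]
      · rw [conj_pow, S5, mul_one, mul_inv_cancel]
      · rw [inv_pow, S5, inv_one]
    have hw : ad F ((a * S) ^ 4) = 1 := by rw [map_pow, map_mul, ada, adS, ← map_mul, ← map_pow, as7_pow, map_one]
    have e1 : (a * S⁻¹) ^ 4 = (a * S) ^ 4 := by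
      have h1 : g * (a * S) * g⁻¹ = a * S⁻¹ := by
        calc g * (a * S) * g⁻¹ = (g * a * g⁻¹) * (g * S * g⁻¹) := by group
          _ = a * S⁻¹ := by rw [ga, gS]
      rw [← h1, conj_pow, Cov.ker_comm hw g, mul_inv_cancel_right]
    have ha : a⁻¹ = a := inv_eq_of_mul_eq_one_left a2
    have e2 : (a * S⁻¹) ^ 4 = ((a * S) ^ 4)⁻¹ := by
      have h1 : a * S⁻¹ = a⁻¹ * (a * S)⁻¹ * a⁻¹⁻¹ := by
        rw [inv_inv, mul_inv_rev]
        calc a * S⁻¹ = a⁻¹ * S⁻¹ := by rw [ha]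
          _ = _ := by group
      rw [h1, conj_pow, inv_pow]
      have h2 := Cov.ker_comm (z := ((a * S) ^ 4)⁻¹) (by rw [map_inv, hw, inv_one]) a⁻¹
      rw [h2, mul_inv_cancel_right]
    refine one_of_pow hw (m := 2) (by norm_num) ?_
    rw [pow_two]
    nth_rw 1 [← e1]
    rw [e2, inv_mul_cancel]
  · have h1 : yw S T * (S * T) * (yw S T)⁻¹ = (S * T) ^ 2 := by
      refine eq_of_ad (m := 7) ?_ (by norm_num) ?_ ?_
      · rw [map_mul, map_mul, map_inv, ady, map_pow, map_mul, adS, adT, ← map_mul, ← map_inv, ← map_mul, ← map_mul, yz7,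
          mul_inv_cancel_right, map_pow]
      · rw [conj_pow, ST7, mul_one, mul_inv_cancel]
      · rw [← pow_mul, mul_comm, pow_mul, ST7, one_pow]
    rw [← h1, inv_mul_cancel_right]

end lifts

/-! ### the families -/

section fam

variable {F : Type u} [Field F] {G : Type*} [Group G]

theorem pow_congr {ζ : F} (h3 : ζ ^ 3 = 1) {i j : ℕ} (h : (i : ZMod 3) = j) : ζ ^ i = ζ ^ j := by
  rw [pow_eq_pow_mod i h3, pow_eq_pow_mod j h3, (ZMod.natCast_eq_natCast_iff _ _ _).1 h]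

theorem fam_of (σ : Representation F G (I27 → F)) {S T a z : G} {ζ : F} (h3 : ζ ^ 3 = 1) (hz : ∀ v, σ z v = ζ • v)
    (h5 : S ^ 5 = 1) (n : Fin 21 → ℕ) (hn : ∀ p, wv S T a (1 :: bw p) = wv S T a (bw (tp p) ++ ww p) * z ^ n p)
    {c : ℕ} (hc : ∀ p, ((n p : ℕ) : ZMod 3) = (nt p : ZMod 3) * (c : ZMod 3)) {w : F} (hw : ζ ^ c = w)
    (v : I27 → F) (hvS : σ S v = v) (hva : σ a v = v) : ∃ f : Fin 21 → I27 → F, f 0 = v ∧ Fam w σ S T f := by
  refine ⟨fun p => σ (wv S T a (bw p)) v, ?_, ?_, ?_⟩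
  · change σ (wv S T a []) v = v
    rw [wv_nil, map_one]; rfl
  · exact fun p => fam_s σ h5 hvS p
  · intro p
    have h1 := fam_t σ hz n hn hvS hva p
    have h2 : ζ ^ n p = w ^ nt p := by
      rw [← hw, ← pow_mul]
      apply pow_congr h3
      rw [hc p]
      push_cast
      ring
    rw [← h2]
    exact h1

end fam

section main

variable {F : Type u} [Field F] [Finite F] {φ : ↥(alternatingGroup (Fin 7)) →* ↥(chevE6.group F)}

theorem ad_wv {S T a : ↥(Zgrp F)} (h : Lifts φ S T a) (l : List (Fin 3)) : ad F (wv S T a l) = φ (wv s7 t7 a7 l) := by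
  rw [map_wv, map_wv, h.adS, h.adT, h.ada]

/-- relations up to the centre -/
theorem rel {S T a : ↥(Zgrp F)} (h : Lifts φ S T a) {ω : Fˣ} (h1 : ω ≠ 1) (h3 : ω ^ 3 = 1) {z : ↥(Zgrp F)}
    (hz : (z : GL I27 F) = scal ω) {l m : List (Fin 3)} (hlm : wv ps pt pa l = wv ps pt pa m) :
    ∃ n : ℕ, wv S T a l = wv S T a m * z ^ n := by
  obtain ⟨w, hw, hlw, -⟩ := eq_mul_of_ad (x := wv S T a l) (y := wv S T a m) (by rw [ad_wv h, ad_wv h, alt_eq hlm])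
  have hz3 := Cov.ker_pow (Cov.ad_scal h3 hz)
  rcases Cov.ker_cases h1 h3 hz hw with rfl | rfl | rfl
  · exact ⟨0, by rw [hlw, pow_zero]⟩
  · exact ⟨1, by rw [hlw, pow_one]⟩
  · refine ⟨2, ?_⟩
    rw [hlw]
    congr 1
    rw [inv_eq_iff_mul_eq_one, ← pow_succ', hz3]

theorem z_V {ω : Fˣ} {z : ↥(Zgrp F)} (hz : (z : GL I27 F) = scal ω) (x : I27 → F) : V F z x = (ω : F) • x := by
  rw [V_apply, hz, Act.coe_scal, Matrix.smul_mulVec, Matrix.one_mulVec]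

theorem z_V' {ω : Fˣ} {z : ↥(Zgrp F)} (hz : (z : GL I27 F) = scal ω) (x : I27 → F) :
    V' F z x = (ω : F)⁻¹ • x := by
  have h2 : ∀ y, Cfsg.Agent.H952.F4.tf (V' F z x - (ω : F)⁻¹ • x) y = 0 := by
    intro y
    have h3 := Act.tf_act z ((ω : F)⁻¹ • y) x
    rw [map_smul, z_V hz, smul_smul, inv_mul_cancel₀ ω.ne_zero, one_smul] at h3
    rw [sub_eq_add_neg, H952.F4.Jord.tf_add_left, ← neg_one_smul F ((ω : F)⁻¹ • x), H952.F4.Jord.tf_smul_left,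
      H952.F4.Jord.tf_smul_left, H952.F4.Jord.tf_comm (V' F z x), h3, H952.F4.Jord.tf_smul_left,
      H952.F4.Jord.tf_comm x]
    ring
  exact sub_eq_zero.1 (H952.F4.Jord.tf_nondeg h2)

/-- the word of the commutator of `T` and the lift of `(3 4 5)` -/
def cw : List (Fin 3) := [1] ++ y345 ++ [1, 1] ++ y345 ++ y345

/-- the word `T S T⁻¹ S⁻¹ T` -/
def aw : List (Fin 3) := [1, 0, 1, 1, 0, 0, 0, 0, 1]

theorem perm_aw : wv ps pt pa aw = wv ps pt pa [2] := by decide +kernel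

/-- `(3 4 5)` -/
def b7 : ↥(alternatingGroup (Fin 7)) := ⟨swap 3 4 * swap 4 5, Perm.mem_alternatingGroup.2 (by decide)⟩

theorem b7_eq : wv s7 t7 a7 y345 = b7 := by
  apply Subtype.ext
  exact (map_wv s7 t7 a7 (alternatingGroup (Fin 7)).subtype y345).trans perm_y

theorem b7_pow : b7 ^ 3 = 1 := Subtype.ext (by decide +kernel)
theorem b7_ne : b7 ≠ 1 := fun h => absurd (congrArg Subtype.val h) (by decide +kernel)

/-- the commutator is not trivial -/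
theorem comm_eq (hi : Function.Injective φ) {ω : Fˣ} (hc : Cover φ ω) {z : ↥(Zgrp F)}
    (hz : (z : GL I27 F) = scal ω) {S T a : ↥(Zgrp F)} (h : Lifts φ S T a) :
    ∃ c : ℕ, (c : ZMod 3) ≠ 0 ∧ wv S T a cw = z ^ c := by
  have hT : (t7 : Perm (Fin 7)).cycleType = {3} := by
    have h1 : Perm.IsThreeCycle (swap (1 : Fin 7) 0 * swap 1 2) :=
      Perm.isThreeCycle_swap_mul_swap_same (by decide) (by decide) (by decide)
    have h2 : (t7 : Perm (Fin 7)) = swap 1 0 * swap 1 2 := by decide +kernel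
    rw [h2]; exact h1
  have hb : (b7 : Perm (Fin 7)).cycleType = {3} := by
    have h1 : Perm.IsThreeCycle (swap (4 : Fin 7) 3 * swap 4 5) :=
      Perm.isThreeCycle_swap_mul_swap_same (by decide) (by decide) (by decide)
    have h2 : (b7 : Perm (Fin 7)) = swap 4 3 * swap 4 5 := by decide +kernel
    rw [h2]; exact h1
  have hd : (t7 : Perm (Fin 7)).Disjoint b7 := by
    intro i
    revert i
    decide +kernel
  have hy : ad F (wv S T a y345) = φ b7 := by rw [ad_wv h, b7_eq]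
  have hy3 : wv S T a y345 ^ 3 = 1 := (Cov.type_thirty (Or.inr rfl) hi hc (orderOf_eq_prime b7_pow b7_ne) hy).1
  have hz3 := Cov.ker_pow (Cov.ad_scal hc.2.1 hz)
  have e1 : wv S T a cw = T * wv S T a y345 * T⁻¹ * (wv S T a y345)⁻¹ := by
    have h1 : wv S T a [1] = T := mul_one T
    have h2 : wv S T a [1, 1] = T⁻¹ := by
      change T * (T * 1) = T⁻¹
      rw [mul_one, eq_inv_iff_mul_eq_one, ← h.T3, pow_succ, pow_two]
    have h3 : wv S T a y345 * wv S T a y345 = (wv S T a y345)⁻¹ := by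
      rw [eq_inv_iff_mul_eq_one, ← hy3, pow_succ, pow_two]
    rw [cw, wv_append, wv_append, wv_append, wv_append, h1, h2, ← h3]
    simp only [mul_assoc]
  rcases Cov.not_comm (Or.inr rfl) hi hc hT hb hd h.adT hy with hh | hh
  · refine ⟨1, by decide, ?_⟩
    rw [e1, pow_one]
    exact Subtype.ext (by rw [hh.2, hz])
  · refine ⟨2, by decide, ?_⟩
    rw [e1]
    have h4 : z ^ 2 = z⁻¹ := by rw [eq_inv_iff_mul_eq_one, ← pow_succ, hz3]
    rw [h4]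
    exact Subtype.ext (by rw [hh.2, Subgroup.coe_inv, hz, Cov.scal_inv])

/-- **A1**: the families -/
theorem exists_fam (hi : Function.Injective φ) {ω : Fˣ} (hc : Cover φ ω) {S T a : ↥(Zgrp F)} (h : Lifts φ S T a)
    (hX : X (V F) S a ≠ ⊥ ∨ X (V' F) S a ≠ ⊥) :
    ∃ w : F, (w = (ω : F) ∨ w = (ω : F)⁻¹) ∧
      (∀ v, V F (T * S * T⁻¹ * S⁻¹ * T) v = w • V F a v) ∧
      (∀ v, V' F (T * S * T⁻¹ * S⁻¹ * T) v = w ^ 2 • V' F a v) ∧
      (∀ v, V F S v = v → V F a v = v → ∃ f : Fin 21 → I27 → F, f 0 = v ∧ Fam w (V F) S T f) ∧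
      (∀ v, V' F S v = v → V' F a v = v → ∃ f : Fin 21 → I27 → F, f 0 = v ∧ Fam (w ^ 2) (V' F) S T f) := by
  obtain ⟨h1, h3, z, hz, -⟩ := id hc
  have hω1 : (ω : F) ≠ 1 := fun h0 => h1 (Units.ext h0)
  have hω3 : (ω : F) ^ 3 = 1 := by rw [← Units.val_pow_eq_pow_val, h3, Units.val_one]
  have hω0 : (ω : F) ≠ 0 := ω.ne_zero
  have hi1 : (ω : F)⁻¹ ≠ 1 := fun h0 => hω1 (inv_eq_one.1 h0)
  have hi3 : (ω : F)⁻¹ ^ 3 = 1 := by rw [inv_pow, hω3, inv_one]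
  choose n hn using fun p => rel h h1 h3 hz (perm_key p)
  obtain ⟨c1, hc1⟩ := rel h h1 h3 hz perm_r1
  obtain ⟨c2, hc2⟩ := rel h h1 h3 hz perm_r2
  rw [wv_nil, one_mul] at hc1 hc2
  obtain ⟨c, hc0, hcw⟩ := comm_eq hi hc hz h
  obtain ⟨m, hm⟩ := rel h h1 h3 hz perm_aw
  -- everything is determined on one vector
  have key : ∀ (σ : Representation F ↥(Zgrp F) (I27 → F)) (ζ : F), ζ ≠ 1 → ζ ^ 3 = 1 → (∀ v, σ z v = ζ • v) →
      X σ S a ≠ ⊥ → (∀ p, ((n p : ℕ) : ZMod 3) = (nt p : ZMod 3) * (c1 : ZMod 3)) ∧ (c1 : ZMod 3) ≠ 0 ∧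
        (m : ZMod 3) = c1 := by
    intro σ ζ hζ1 hζ3 hσz hXσ
    obtain ⟨v, hv, hv0⟩ := (Submodule.ne_bot_iff _).1 hXσ
    have hvS : σ S v = v := by
      have := (Submodule.mem_inf.1 hv).1
      simpa [Cfsg.Agent.H952.F4.es, sub_eq_zero] using this
    have hva : σ a v = v := by
      have := (Submodule.mem_inf.1 hv).2
      simpa [Cfsg.Agent.H952.F4.es, sub_eq_zero] using this
    have hcore := core σ hσz h.S5 n hn hvS hva hζ1 hζ3 hv0 h.T3 h.ST7 hc1 hc2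
    have q1 := req σ hσz h.S5 n hn hvS hva hζ1 hζ3 hv0 (l := cw) (by decide +kernel) hcw 0
      [1, 6, 0, 1, 16, 8, 2, 6, 0, 1, 6, 5, 11, 7, 0, 1, 6, 5, 11, 7, 0] (by decide +kernel)
    have q2 := word_act σ hσz h.S5 n hn hvS hva aw (by decide +kernel) 0
    rw [hm, show exl aw 0 = ([1, 15, 10, 0], 0) by decide +kernel] at q2
    have e0 : σ (wv S T a (bw 0)) v = v := by
      change σ (wv S T a []) v = v
      rw [wv_nil, map_one]; rfl
    have e2 : wv S T a [2] = a := mul_one a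
    rw [e0, e2, map_mul, Module.End.mul_apply, z_pow σ hσz, map_smul, hva] at q2
    have q3 := smul_cancel hv0 hζ1 hζ3 q2
    simp only [List.map_cons, List.map_nil, List.sum_cons, List.sum_nil, Nat.cast_add, add_zero,
      hcore] at q1 q3
    refine ⟨hcore, ?_, ?_⟩
    · intro h0
      apply hc0
      rw [← q1, h0]
      simp
    · rw [q3]
      have e3 : ((nt 1 : ℕ) : ZMod 3) = 0 := by decide
      have e4 : ((nt 15 : ℕ) : ZMod 3) = 1 := by decide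
      have e5 : ((nt 10 : ℕ) : ZMod 3) = 0 := by decide
      have e6 : ((nt 0 : ℕ) : ZMod 3) = 0 := by decide
      rw [e3, e4, e5, e6]
      ring
  obtain ⟨k1, k2, k3⟩ : (∀ p, ((n p : ℕ) : ZMod 3) = (nt p : ZMod 3) * (c1 : ZMod 3)) ∧ (c1 : ZMod 3) ≠ 0 ∧
      (m : ZMod 3) = c1 := by
    rcases hX with hX | hX
    · exact key (V F) ω hω1 hω3 (z_V hz) hX
    · exact key (V' F) (ω : F)⁻¹ hi1 hi3 (z_V' hz) hX
  have haw : wv S T a aw = T * S * T⁻¹ * S⁻¹ * T := by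
    have hT2 : T * T = T⁻¹ := by rw [eq_inv_iff_mul_eq_one, ← h.T3, pow_succ, pow_two]
    have hS4 : S * S * S * S = S⁻¹ := by
      rw [eq_inv_iff_mul_eq_one, ← h.S5]; simp only [pow_succ, pow_zero, one_mul]
    rw [← hT2, ← hS4]
    change T * (S * (T * (T * (S * (S * (S * (S * (T * 1)))))))) = _
    simp only [mul_assoc, mul_one]
  have hm' : T * S * T⁻¹ * S⁻¹ * T = a * z ^ m := by
    rw [← haw, hm]
    congr 1
    exact mul_one a
  have hinv : (ω : F)⁻¹ ^ c1 = ((ω : F) ^ c1) ^ 2 := by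
    rw [inv_pow]
    refine inv_eq_of_mul_eq_one_right ?_
    rw [← pow_succ', ← pow_mul, mul_comm c1, pow_mul, hω3, one_pow]
  refine ⟨(ω : F) ^ c1, ?_, ?_, ?_, ?_, ?_⟩
  · have hc : (c1 : ZMod 3) = 1 ∨ (c1 : ZMod 3) = 2 := by
      generalize (c1 : ZMod 3) = x at k2
      revert x
      decide
    rcases hc with hc | hc
    · left
      exact (pow_congr hω3 (j := 1) (by rw [hc]; rfl)).trans (pow_one _)
    · right
      refine eq_inv_of_mul_eq_one_left ?_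
      rw [pow_congr hω3 (i := c1) (j := 2) (by rw [hc]; rfl), ← pow_succ, hω3]
  · intro v
    rw [hm', map_mul, Module.End.mul_apply, z_pow (V F) (z_V hz), map_smul, pow_congr hω3 k3]
  · intro v
    rw [hm', map_mul, Module.End.mul_apply, z_pow (V' F) (z_V' hz), map_smul, pow_congr hi3 k3, hinv]
  · intro v hvS hva
    exact fam_of (V F) hω3 (z_V hz) h.S5 n hn k1 rfl v hvS hva
  · intro v hvS hva
    exact fam_of (V' F) hi3 (z_V' hz) h.S5 n hn k1 hinv v hvS hva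

end main

end Cfsg.Agent.H16.S7
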